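import Groth.Agent.DepthFEt.Sheaf
import Groth.Agent.SGA1Q.SigmaFinite
import Groth.Agent.EtFound.SectionUnr
import Groth.Prelude.Def_FEt
import Mathlib.AlgebraicGeometry.Morphisms.FlatMono
import Mathlib.AlgebraicGeometry.Morphisms.FormallyUnramified
import Mathlib.AlgebraicGeometry.Gluing

/-!
# Faithfulness and fullness of restriction of finite étale covers
-/

set_option autoImplicit false
set_option linter.style.haveILetI false

universe u

open CategoryTheory CategoryTheory.Limits AlgebraicGeometry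

namespace Groth.Agent.DepthFEt

set_option backward.isDefEq.respectTransparency.types false

variable {X U : Scheme.{u}} {j : U ⟶ X}

/-- An object of finite étale covers from a finite étale morphism. -/
noncomputable abbrev mkCat {X' T : Scheme.{u}} (p : T ⟶ X') (hp : FEt.prop p) : FEt.Cat X' :=
  MorphismProperty.Over.mk ⊤ p hp

theorem hom_props {X' : Scheme.{u}} (A : FEt.Cat X') : IsFinite A.hom ∧ Etale A.hom := A.prop

/-- A clopen subscheme cut out by the diagonal meeting every component is everything. -/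
theorem isIso_of_range (h : Dens j) {T K : Scheme.{u}} (t : T ⟶ X) [Etale t] (π : K ⟶ T) [IsOpenImmersion π]
    (hcl : IsClosed (Set.range π)) (hR : ∀ x, t x ∈ Set.range j → x ∈ Set.range π) : IsIso π := by
  have h0 := h.eq_empty t hcl.isOpen_compl fun x hx hxR => hx (hR x hxR)
  haveI : Surjective π := ⟨fun x => by
    by_contra hx
    exact Set.eq_empty_iff_forall_notMem.1 h0 x hx⟩
  exact (isIso_iff_isOpenImmersion_and_surjective _).2 ⟨inferInstance, inferInstance⟩

variable [IsOpenImmersion j] {X' : Scheme.{u}} (g : X' ⟶ X) [Etale g]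

theorem range_restrict {A : FEt.Cat X'} :
    Set.range (pullback.fst A.hom (pullback.snd j g)) = (A.hom ≫ g) ⁻¹' Set.range j := by
  rw [Scheme.Pullback.range_fst, Scheme.Pullback.range_snd]
  ext x
  exact (iff_of_eq (congrArg (· ∈ Set.range j) (Scheme.Hom.comp_apply A.hom g x))).symm

theorem faithful (h : Dens j) : (FEt.restrict (pullback.snd j g)).Faithful := by
  refine ⟨fun {A B} a b hab => ?_⟩
  obtain ⟨hAf, hAe⟩ := hom_props A
  obtain ⟨hBf, hBe⟩ := hom_props B
  haveI := hAe
  haveI := hBf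
  haveI := hBe
  let f := pullback.snd j g
  let ιA := pullback.fst A.hom f
  have hι : ιA ≫ a.left = ιA ≫ b.left := by
    have e := congrArg (fun c : (FEt.restrict f).obj A ⟶ (FEt.restrict f).obj B => c.left ≫ pullback.fst B.hom f) hab
    refine Eq.trans ?_ (Eq.trans e ?_)
    · exact (pullback.lift_fst _ _ _).symm
    · exact pullback.lift_fst _ _ _
  have hw : a.left ≫ B.hom = b.left ≫ B.hom :=
    (MorphismProperty.Over.w a).trans (MorphismProperty.Over.w b).symm
  let ab := pullback.lift a.left b.left hw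
  let π := pullback.fst ab (pullback.diagonal B.hom)
  haveI : IsOpenImmersion π := MorphismProperty.pullback_fst (P := @IsOpenImmersion) _ _ inferInstance
  haveI : IsClosedImmersion π := MorphismProperty.pullback_fst (P := @IsClosedImmersion) _ _ inferInstance
  haveI : IsIso π := isIso_of_range h (A.hom ≫ g) π π.isClosedEmbedding.isClosed_range fun x hx => by
    obtain ⟨p, rfl⟩ : x ∈ Set.range ιA := (range_restrict g).symm.subset hx
    refine ⟨pullback.lift ιA (ιA ≫ a.left) ?_ p, ?_⟩
    · apply pullback.hom_ext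
      · have ha : ab ≫ pullback.fst B.hom B.hom = a.left := pullback.lift_fst _ _ _
        rw [Category.assoc, ha, Category.assoc, pullback.diagonal_fst, Category.comp_id]
      · have hb : ab ≫ pullback.snd B.hom B.hom = b.left := pullback.lift_snd _ _ _
        rw [Category.assoc, hb, Category.assoc, pullback.diagonal_snd, Category.comp_id]
        exact hι.symm
    · rw [← Scheme.Hom.comp_apply, pullback.lift_fst]
  apply MorphismProperty.Over.Hom.ext
  have e1 := congrArg (· ≫ pullback.fst B.hom B.hom) (pullback.condition (f := ab) (g := pullback.diagonal B.hom))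
  have e2 := congrArg (· ≫ pullback.snd B.hom B.hom) (pullback.condition (f := ab) (g := pullback.diagonal B.hom))
  simp only [Category.assoc, ab, pullback.lift_fst, pullback.lift_snd, pullback.diagonal_fst,
    pullback.diagonal_snd, Category.comp_id] at e1 e2
  exact (cancel_epi π).1 (e1.trans e2.symm)

theorem full (h : Dens j) (h2 : ExtClopen j) : (FEt.restrict (pullback.snd j g)).Full := by
  refine ⟨fun {A B} φ => ?_⟩
  obtain ⟨hAf, hAe⟩ := hom_props A
  obtain ⟨hBf, hBe⟩ := hom_props B
  haveI := hAe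
  haveI := hBf
  haveI := hBe
  let f := pullback.snd j g
  let ιA := pullback.fst A.hom f
  let ιB := pullback.fst B.hom f
  haveI : IsOpenImmersion ιA := inferInstanceAs (IsOpenImmersion (pullback.fst A.hom f))
  have hφ : φ.left ≫ pullback.snd B.hom f = pullback.snd A.hom f := MorphismProperty.Over.w φ
  let W := pullback A.hom B.hom
  let pA : W ⟶ A.left := pullback.fst A.hom B.hom
  haveI : IsFinite pA := MorphismProperty.pullback_fst (P := @IsFinite) _ _ hBf
  haveI : Etale pA := MorphismProperty.pullback_fst (P := @Etale) _ _ hBe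
  have hΓ : ιA ≫ A.hom = (φ.left ≫ ιB) ≫ B.hom := by
    refine pullback.condition.trans ?_
    rw [← hφ]
    exact (Category.assoc _ _ _).trans ((congrArg (φ.left ≫ ·) pullback.condition.symm).trans (Category.assoc _ _ _).symm)
  let Γ : _ ⟶ W := pullback.lift ιA (φ.left ≫ ιB) hΓ
  let s := pullback.lift Γ (𝟙 _) (show Γ ≫ pA = 𝟙 _ ≫ ιA by rw [pullback.lift_fst, Category.id_comp])
  have hs : s ≫ pullback.snd pA ιA = 𝟙 _ := pullback.lift_snd _ _ _
  haveI : IsFinite (pullback.snd pA ιA) := MorphismProperty.pullback_snd (P := @IsFinite) _ _ inferInstance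
  haveI : Etale (pullback.snd pA ιA) := MorphismProperty.pullback_snd (P := @Etale) _ _ inferInstance
  haveI : IsOpenImmersion (pullback.fst pA ιA) := inferInstance
  haveI := EtFound.isOpenImmersion_section (pullback.snd pA ιA) s hs
  have hΓs : s ≫ pullback.fst pA ιA = Γ := pullback.lift_fst _ _ _
  have hC : Set.range Γ = pullback.fst pA ιA '' Set.range s := by
    rw [← Set.range_comp, ← hΓs, Scheme.Hom.comp_base, TopCat.coe_comp]
  let t : W ⟶ X := pA ≫ A.hom ≫ g
  haveI : Etale t := inferInstanceAs (Etale (pA ≫ A.hom ≫ g))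
  have hWR : t ⁻¹' Set.range j = Set.range (pullback.fst pA ιA) := by
    rw [Scheme.Pullback.range_fst, show Set.range ιA = (A.hom ≫ g) ⁻¹' Set.range j from range_restrict g]
    ext x
    exact iff_of_eq (congrArg (· ∈ Set.range j) (Scheme.Hom.comp_apply pA (A.hom ≫ g) x))
  obtain ⟨D, hD, hDR⟩ := h2 W t inferInstance (Set.range Γ)
    (hC ▸ (pullback.fst pA ιA).isOpenEmbedding.isOpenMap _ s.isOpenEmbedding.isOpen_range)
    (by rw [hC, hWR]; exact Set.image_subset_range _ _)
    (by
      rw [hC, hWR, ← Set.image_univ, ← Set.image_diff (pullback.fst pA ιA).isOpenEmbedding.injective]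
      exact (pullback.fst pA ιA).isOpenEmbedding.isOpenMap _
        (isOpen_univ.sdiff (EtFound.isClosed_range_section (pullback.snd pA ιA) s hs)))
  let DO : W.Opens := ⟨D, hD.2⟩
  let q := DO.ι ≫ pA
  haveI : IsClosedImmersion DO.ι := IsClosedImmersion.of_isPreimmersion _ (by rw [Scheme.Opens.range_ι]; exact hD.1)
  haveI : IsFinite q := inferInstanceAs (IsFinite (DO.ι ≫ pA))
  haveI : Etale q := inferInstanceAs (Etale (DO.ι ≫ pA))
  have hΓD : Set.range Γ ⊆ Set.range DO.ι := by
    rw [Scheme.Opens.range_ι, ← hDR]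
    exact Set.inter_subset_left
  let γ := IsOpenImmersion.lift DO.ι Γ hΓD
  have hγ : γ ≫ q = ιA := by
    show γ ≫ DO.ι ≫ pA = ιA
    rw [← Category.assoc, IsOpenImmersion.lift_fac, pullback.lift_fst]
  -- over `U` the projection is bijective
  have hfib : ∀ d : DO.toScheme, (A.hom ≫ g) (q d) ∈ Set.range j → ∃ p, γ p = d := by
    intro d hd
    have hdt : DO.ι d ∈ t ⁻¹' Set.range j := by
      show (pA ≫ A.hom ≫ g) (DO.ι d) ∈ Set.range j
      rw [Scheme.Hom.comp_apply]
      rwa [show q d = pA (DO.ι d) from Scheme.Hom.comp_apply _ _ _] at hd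
    obtain ⟨p, hp⟩ : DO.ι d ∈ Set.range Γ := hDR.subset ⟨d.2, hdt⟩
    refine ⟨p, DO.ι.isOpenEmbedding.injective ?_⟩
    rw [← Scheme.Hom.comp_apply, IsOpenImmersion.lift_fac, hp]
  haveI : IsIso (pullback.diagonal q) := by
    refine isIso_of_range h (pullback.fst q q ≫ q ≫ A.hom ≫ g) (pullback.diagonal q)
      (pullback.diagonal q).isClosedEmbedding.isClosed_range fun z hz => ?_
    rw [Scheme.Hom.comp_apply, Scheme.Hom.comp_apply] at hz
    obtain ⟨p, hp⟩ := hfib (pullback.fst q q z) hz
    have hqz : q (pullback.fst q q z) = q (pullback.snd q q z) := by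
      rw [← Scheme.Hom.comp_apply, ← Scheme.Hom.comp_apply, pullback.condition]
    rw [hqz] at hz
    obtain ⟨p', hp'⟩ := hfib (pullback.snd q q z) hz
    have hpp : ιA p = ιA p' := by
      have e : ∀ r, ιA r = q (γ r) := fun r => by rw [← hγ, Scheme.Hom.comp_apply]
      rw [e, e, hp, hp', hqz]
    obtain rfl := ιA.isOpenEmbedding.injective hpp
    haveI : IsOpenImmersion γ := by
      haveI : IsOpenImmersion (γ ≫ DO.ι) := by rw [IsOpenImmersion.lift_fac, ← hΓs]; infer_instance
      exact IsOpenImmersion.of_comp γ DO.ι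
    let O := γ.opensRange
    have hmem1 : pullback.fst q q z ∈ O := ⟨p, hp⟩
    have hmem2 : pullback.snd q q z ∈ O := ⟨p, hp'⟩
    let Z : (pullback q q).Opens := pullback.fst q q ⁻¹ᵁ O ⊓ pullback.snd q q ⁻¹ᵁ O
    have hrange1 : Set.range (Z.ι ≫ pullback.fst q q) ⊆ Set.range γ := by
      rintro _ ⟨w, rfl⟩; rw [Scheme.Hom.comp_apply]; exact w.2.1
    have hrange2 : Set.range (Z.ι ≫ pullback.snd q q) ⊆ Set.range γ := by
      rintro _ ⟨w, rfl⟩; rw [Scheme.Hom.comp_apply]; exact w.2.2
    have heq : Z.ι ≫ pullback.fst q q = Z.ι ≫ pullback.snd q q := by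
      rw [← IsOpenImmersion.lift_fac γ _ hrange1, ← IsOpenImmersion.lift_fac γ _ hrange2]
      congr 1
      rw [← cancel_mono ιA, ← hγ, IsOpenImmersion.lift_fac_assoc, IsOpenImmersion.lift_fac_assoc, Category.assoc,
        Category.assoc, pullback.condition]
    refine ⟨(Z.ι ≫ pullback.fst q q) ⟨z, hmem1, hmem2⟩, ?_⟩
    have hz' : (Z.ι ≫ pullback.fst q q) ≫ pullback.diagonal q = Z.ι := by
      apply pullback.hom_ext
      · simp
      · rw [Category.assoc, pullback.diagonal_snd, Category.comp_id, heq]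
    rw [← Scheme.Hom.comp_apply, hz']
    rfl
  haveI : Mono q := (pullback.isIso_diagonal_iff q).1 inferInstance
  haveI : IsOpenImmersion q := IsOpenImmersion.of_flat_of_mono q
  haveI : IsIso q := isIso_of_range h (A.hom ≫ g) q q.isClosedMap.isClosed_range fun x hx => by
    obtain ⟨p, rfl⟩ : x ∈ Set.range ιA := (range_restrict g).symm.subset hx
    exact ⟨γ p, by rw [← Scheme.Hom.comp_apply, hγ]⟩
  let σ := CategoryTheory.inv q ≫ DO.ι ≫ pullback.snd A.hom B.hom
  have hσw : σ ≫ B.hom = A.hom := by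
    show (CategoryTheory.inv q ≫ DO.ι ≫ pullback.snd A.hom B.hom) ≫ B.hom = A.hom
    rw [Category.assoc, Category.assoc, ← pullback.condition, IsIso.inv_comp_eq]
    exact (Category.assoc _ _ _).symm
  refine ⟨MorphismProperty.Over.homMk σ hσw trivial, ?_⟩
  apply MorphismProperty.Over.Hom.ext
  apply pullback.hom_ext
  · refine (pullback.lift_fst _ _ _).trans ?_
    show ιA ≫ σ = φ.left ≫ ιB
    have h1 : ιA ≫ CategoryTheory.inv q = γ := by rw [IsIso.comp_inv_eq, hγ]
    show ιA ≫ CategoryTheory.inv q ≫ DO.ι ≫ pullback.snd A.hom B.hom = _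
    rw [reassoc_of% h1, ← Category.assoc, IsOpenImmersion.lift_fac, pullback.lift_snd]
    rfl
  · exact (pullback.lift_snd _ _ _).trans hφ.symm

variable (X') in
/-- The trivial cover with two sheets. -/
noncomputable abbrev fold : FEt.Cat X' :=
  mkCat (Sigma.desc fun _ : ULift.{u} Bool => 𝟙 X')
    ⟨SGA1Q.isFinite_sigmaDesc _ fun _ => inferInstance, IsZariskiLocalAtSource.sigmaDesc (P := @Etale) fun _ => inferInstance⟩

variable (X') in
/-- The trivial cover. -/
noncomputable abbrev one : FEt.Cat X' := mkCat (𝟙 X') ⟨inferInstance, inferInstance⟩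

variable (X') in
/-- A sheet. -/
noncomputable abbrev sheet (b : Bool) : one X' ⟶ fold X' :=
  MorphismProperty.Over.homMk (Sigma.ι (fun _ : ULift.{u} Bool => X') ⟨b⟩) (Sigma.ι_desc _ _) trivial

theorem sigma_ι_apply_ne {x y : X'} :
    Sigma.ι (fun _ : ULift.{u} Bool => X') ⟨true⟩ x ≠ Sigma.ι (fun _ : ULift.{u} Bool => X') ⟨false⟩ y := by
  rw [← sigmaMk_mk (fun _ : ULift.{u} Bool => X'), ← sigmaMk_mk (fun _ : ULift.{u} Bool => X')]
  exact fun h => by simpa using congrArg Sigma.fst ((sigmaMk _).injective h)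

theorem dens_of_faithful
    (h : ∀ (X' : Scheme.{u}) (g : X' ⟶ X) [Etale g], (FEt.restrict (pullback.snd j g)).Faithful) : Dens j := by
  intro X' g hg hne
  haveI := hg
  by_contra hR
  push Not at hR
  haveI : IsEmpty ↥((FEt.restrict (pullback.snd j g)).obj (one X')).left := ⟨fun p => by
    have hp : pullback.fst (one X').hom (pullback.snd j g) p ∈ ((one X').hom ≫ g) ⁻¹' Set.range j :=
      (range_restrict g).subset ⟨p, rfl⟩
    exact hR _ ((Category.id_comp g) ▸ hp)⟩
  have he : sheet X' true = sheet X' false := (h X' g).map_injective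
    (MorphismProperty.Over.Hom.ext (isInitialOfIsEmpty.hom_ext _ _))
  obtain ⟨x⟩ := hne
  exact sigma_ι_apply_ne (congrArg (fun c : one X' ⟶ fold X' => c.left x) he)

theorem ext_of_full (h : ∀ (X' : Scheme.{u}) (g : X' ⟶ X) [Etale g], (FEt.restrict (pullback.snd j g)).Full) :
    ExtClopen j := by
  classical
  intro X' g hg C hC hCR hC'
  haveI := hg
  let f := pullback.snd j g
  let P := pullback (one X').hom f
  let π : P ⟶ X' := pullback.fst (one X').hom f
  have hπ : Set.range π = g ⁻¹' Set.range j := by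
    refine (range_restrict g).trans ?_
    rw [show (one X').hom ≫ g = g from Category.id_comp g]
    rfl
  let O : Bool → P.Opens := fun b =>
    if b then ⟨π ⁻¹' C, hC.preimage π.continuous⟩
    else ⟨π ⁻¹' (g ⁻¹' Set.range j \ C), hC'.preimage π.continuous⟩
  have hcov : TopologicalSpace.IsOpenCover O := top_unique fun p _ => by
    rw [TopologicalSpace.Opens.mem_iSup]
    by_cases hp : π p ∈ C
    · exact ⟨true, hp⟩
    · exact ⟨false, hπ.subset ⟨p, rfl⟩, hp⟩
  let 𝒰 := P.openCoverOfIsOpenCover O hcov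
  let F : ∀ b : Bool, (O b).toScheme ⟶ (fold X').left := fun b =>
    (O b).ι ≫ π ≫ Sigma.ι (fun _ : ULift.{u} Bool => X') ⟨b⟩
  have hOd : ∀ b b' : Bool, b ≠ b' → ∀ p : P, p ∈ O b → p ∈ O b' → False := by
    intro b b' hbb p h1 h2
    rcases b with _ | _ <;> rcases b' with _ | _
    · exact hbb rfl
    · exact (h1 : π p ∈ g ⁻¹' Set.range j \ C).2 h2
    · exact (h2 : π p ∈ g ⁻¹' Set.range j \ C).2 h1
    · exact hbb rfl
  have hglue : ∀ b b' : Bool, pullback.fst (O b).ι (O b').ι ≫ F b = pullback.snd (O b).ι (O b').ι ≫ F b' := fun b b' => by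
    by_cases hbb : b = b'
    · subst hbb
      rw [(cancel_mono (O b).ι).1 (pullback.condition (f := (O b).ι) (g := (O b).ι))]
    · haveI : IsEmpty ↥(pullback (O b).ι (O b').ι) := ⟨fun w => by
        have h1 : (O b).ι (pullback.fst (O b).ι (O b').ι w) = (O b').ι (pullback.snd (O b).ι (O b').ι w) := by
          rw [← Scheme.Hom.comp_apply, ← Scheme.Hom.comp_apply, pullback.condition]
        exact hOd b b' hbb _ (pullback.fst (O b).ι (O b').ι w).2
          (show (O b).ι (pullback.fst (O b).ι (O b').ι w) ∈ O b' by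
            rw [h1]; exact (pullback.snd (O b).ι (O b').ι w).2)⟩
      exact isInitialOfIsEmpty.hom_ext _ _
  let θ : P ⟶ (fold X').left := 𝒰.glueMorphisms F hglue
  have hθ : ∀ b, (O b).ι ≫ θ = F b := fun b => 𝒰.ι_glueMorphisms _ _ b
  have hθw : θ ≫ (fold X').hom = pullback.snd (one X').hom f ≫ f := by
    refine Eq.trans ?_ pullback.condition
    refine 𝒰.hom_ext _ _ fun b => ?_
    show (O b).ι ≫ θ ≫ (fold X').hom = (O b).ι ≫ π ≫ (one X').hom
    rw [← Category.assoc, hθ b]
    exact (Category.assoc _ _ _).trans (congrArg ((O b).ι ≫ ·) ((Category.assoc _ _ _).trans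
      (congrArg (π ≫ ·) (Sigma.ι_desc _ _))))
  let ψ : (FEt.restrict f).obj (one X') ⟶ (FEt.restrict f).obj (fold X') :=
    MorphismProperty.Over.homMk (pullback.lift θ (pullback.snd (one X').hom f) hθw) (pullback.lift_snd _ _ _) trivial
  obtain ⟨σ, hσ⟩ := (h X' g).map_surjective ψ
  let s : X' ⟶ (fold X').left := σ.left
  have hπs : π ≫ s = θ := by
    have e := congrArg (fun c : (FEt.restrict f).obj (one X') ⟶ (FEt.restrict f).obj (fold X') =>
      c.left ≫ pullback.fst (fold X').hom f) hσ
    exact ((pullback.lift_fst _ _ _).symm.trans e).trans (pullback.lift_fst _ _ _)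
  let ι₁ := Sigma.ι (fun _ : ULift.{u} Bool => X') ⟨true⟩
  have hclopen : IsClopen (Set.range ι₁) := by
    refine ⟨?_, ι₁.isOpenEmbedding.isOpen_range⟩
    have hc : Set.range ι₁ = (Set.range (Sigma.ι (fun _ : ULift.{u} Bool => X') ⟨false⟩))ᶜ := by
      ext w
      constructor
      · rintro ⟨x, rfl⟩ ⟨y, hy⟩
        exact sigma_ι_apply_ne hy.symm
      · intro hw
        obtain ⟨⟨⟨b⟩, x⟩, rfl⟩ := (sigmaMk (fun _ : ULift.{u} Bool => X')).surjective w
        rw [sigmaMk_mk] at hw ⊢
        cases b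
        · exact absurd ⟨x, rfl⟩ hw
        · exact ⟨x, rfl⟩
    rw [hc]
    exact (Scheme.Hom.isOpenEmbedding _).isOpen_range.isClosed_compl
  refine ⟨s ⁻¹' Set.range ι₁, hclopen.preimage s.continuous, ?_⟩
  have hval : ∀ (b : Bool) (p : P), p ∈ O b → s (π p) = Sigma.ι (fun _ : ULift.{u} Bool => X') ⟨b⟩ (π p) := by
    intro b p hp
    rw [← Scheme.Hom.comp_apply π s, hπs]
    have h1 := congrArg (fun c : (O b).toScheme ⟶ (fold X').left => c ⟨p, hp⟩) (hθ b)
    simp only [F, Scheme.Hom.comp_apply] at h1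
    exact h1
  ext x
  constructor
  · rintro ⟨hx, hxR⟩
    obtain ⟨p, rfl⟩ := hπ.symm.subset hxR
    by_contra hpC
    obtain ⟨y, hy⟩ := hx
    exact sigma_ι_apply_ne (hy.trans (hval false p ⟨hxR, hpC⟩))
  · intro hx
    obtain ⟨p, rfl⟩ := hπ.symm.subset (hCR hx)
    exact ⟨⟨π p, (hval true p hx).symm⟩, hCR hx⟩

end Groth.Agent.DepthFEt
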