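import Groth.Agent.EtFound.ConstPush
import Groth.Agent.EtFound.PropPush
import Groth.Agent.LocCohLib.OpenSES
import Groth.Agent.LocCohLib.SecSupp
import Groth.Prelude.Def_EtDepth

/-!
# Depth one and two of constant coefficients in terms of clopen sets
-/

set_option autoImplicit false

universe u

open CategoryTheory CategoryTheory.Limits AlgebraicGeometry Opposite

namespace Groth.Agent.DepthFEt

set_option backward.isDefEq.respectTransparency false
set_option backward.isDefEq.respectTransparency.types false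

variable {X U : Scheme.{u}} (j : U ⟶ X)

/-- Every nonempty scheme étale over `X` meets `U`. -/
def Dens : Prop :=
  ∀ (X' : Scheme.{u}) (g : X' ⟶ X), Etale g → Nonempty X' → ∃ x, g x ∈ Set.range j

/-- Clopen subsets of the part over `U` extend. -/
def ExtClopen : Prop :=
  ∀ (X' : Scheme.{u}) (g : X' ⟶ X), Etale g → ∀ C : Set X', IsOpen C → C ⊆ g ⁻¹' Set.range j →
    IsOpen (g ⁻¹' Set.range j \ C) → ∃ D : Set X', IsClopen D ∧ D ∩ g ⁻¹' Set.range j = C

variable {j} in
theorem Dens.eq_empty (h : Dens j) {X' : Scheme.{u}} (g : X' ⟶ X) [Etale g] {O : Set X'} (hO : IsOpen O)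
    (hd : ∀ x ∈ O, g x ∉ Set.range j) : O = ∅ := by
  by_contra hne
  obtain ⟨x, hx⟩ := Set.nonempty_iff_ne_empty.2 hne
  let W : X'.Opens := ⟨O, hO⟩
  obtain ⟨w, hw⟩ := h _ (W.ι ≫ g) inferInstance ⟨⟨x, hx⟩⟩
  exact hd w.1 w.2 (by rwa [Scheme.Hom.comp_apply] at hw)

section Sheaf

open EtFound EtFound.ConstVal

variable [EtCoh.BCCont j]

/-- The inclusion of the part over `U`. -/
noncomputable abbrev bcFst (V : X.Etale) : ((EtCoh.bc j).obj V).left ⟶ V.left := pullback.fst V.hom j

theorem range_bcFst (V : X.Etale) : Set.range (bcFst j V) = V.hom ⁻¹' Set.range j :=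
  Scheme.Pullback.range_fst V.hom j

theorem bcFst_mem (V : X.Etale) (p : ((EtCoh.bc j).obj V).left) : V.hom (bcFst j V p) ∈ Set.range j :=
  Eq.mp (congrArg (fun A => bcFst j V p ∈ A) (range_bcFst j V)) ⟨p, rfl⟩

theorem exists_bcFst (V : X.Etale) (x : V.left) (hx : V.hom x ∈ Set.range j) : ∃ p, bcFst j V p = x :=
  Eq.mpr (congrArg (fun A => x ∈ A) (range_bcFst j V)) hx

theorem image_open (V : X.Etale) [IsOpenImmersion j] (S : Set ((EtCoh.bc j).obj V).left) (hS : IsClosed S) :
    IsOpen (V.hom ⁻¹' Set.range j \ bcFst j V '' S) := by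
  haveI : IsOpenImmersion (bcFst j V) := inferInstanceAs (IsOpenImmersion (pullback.fst V.hom j))
  have h : IsOpen (Set.range (bcFst j V) \ bcFst j V '' S) := by
    rw [← Set.image_univ, ← Set.image_diff (bcFst j V).isOpenEmbedding.injective]
    exact (bcFst j V).isOpenEmbedding.isOpenMap _ (isOpen_univ.sdiff hS)
  exact Eq.mp (congrArg (fun A => IsOpen (A \ bcFst j V '' S)) (range_bcFst j V)) h

theorem nonempty_bc (h : Dens j) (V : X.Etale) (hV : Nonempty V.left) : Nonempty ((EtCoh.bc j).obj V).left := by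
  haveI : Etale V.hom := V.prop
  obtain ⟨x, hx⟩ := h V.left V.hom inferInstance hV
  obtain ⟨p, -⟩ := exists_bcFst j V x hx
  exact ⟨p⟩

variable {G : EtCoh.Ab X} {G' : EtCoh.Ab U} {M : AddCommGrpCat.{u + 1}}
  {φ : M ⟶ G.obj.obj (op (EtCoh.top X))} (hG : ConstBy G φ (U := EtCoh.top X))
  (a : G ⟶ (EtCoh.push j).obj G')
  (hG' : ConstBy G' (φ ≫ a.hom.app (op (EtCoh.top X))) (U := (EtCoh.bc j).obj (EtCoh.top X)))

theorem app_φV (V : X.Etale) (m : M) : (a.hom.app (op V)).hom (φV (EtCore.topIsTerminal X) φ V m) =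
    φV (IsTerminal.isTerminalObj (EtCoh.bc j) _ (EtCore.topIsTerminal X))
      (φ ≫ a.hom.app (op (EtCoh.top X))) ((EtCoh.bc j).obj V) m := by
  refine (NatTrans.naturality_apply a.hom ((EtCore.topIsTerminal X).from V).op (φ.hom m)).trans ?_
  show (G'.obj.map ((EtCoh.bc j).map ((EtCore.topIsTerminal X).from V)).op).hom
    ((a.hom.app (op (EtCoh.top X))).hom (φ.hom m)) = _
  rw [(IsTerminal.isTerminalObj (EtCoh.bc j) _ (EtCore.topIsTerminal X)).hom_ext
    ((EtCoh.bc j).map ((EtCore.topIsTerminal X).from V))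
    ((IsTerminal.isTerminalObj (EtCoh.bc j) _ (EtCore.topIsTerminal X)).from _)]
  rfl

include hG hG' in
/-- The unit preserves values. -/
theorem val_app [IsOpenImmersion j] (V : X.Etale) (b : G.obj.obj (op V)) (p : ((EtCoh.bc j).obj V).left) :
    val (IsTerminal.isTerminalObj (EtCoh.bc j) _ (EtCore.topIsTerminal X)) hG' ((a.hom.app (op V)).hom b) p =
      val (EtCore.topIsTerminal X) hG b (bcFst j V p) := by
  let hT' := IsTerminal.isTerminalObj (EtCoh.bc j) _ (EtCore.topIsTerminal X)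
  obtain ⟨m, W, g, w, hw, hm⟩ := exists_value (EtCore.topIsTerminal X) hG b (bcFst j V p)
  rw [← hw, val_eq (EtCore.topIsTerminal X) hG g w hm]
  have hwR : W.hom w ∈ Set.range j := by
    have e : W.hom w = V.hom (g.left w) :=
      (congrArg (fun t : W.left ⟶ X => t w) (MorphismProperty.Over.w g).symm).trans (Scheme.Hom.comp_apply _ _ _)
    exact e.symm ▸ (congrArg V.hom hw).symm ▸ bcFst_mem j V p
  obtain ⟨q, hq⟩ := exists_bcFst j W w hwR
  haveI : IsOpenImmersion (bcFst j V) := inferInstanceAs (IsOpenImmersion (pullback.fst V.hom j))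
  have hqp : ((EtCoh.bc j).map g).left q = p := by
    refine (bcFst j V).isOpenEmbedding.injective ?_
    rw [← hw, ← hq]
    exact (Scheme.Hom.comp_apply _ _ _).symm.trans ((congrArg (fun t : ((EtCoh.bc j).obj W).left ⟶ V.left => t q)
      (pullback.lift_fst _ _ _)).trans (Scheme.Hom.comp_apply _ _ _))
  rw [← hqp, ← val_map]
  have h1 : (G'.obj.map ((EtCoh.bc j).map g).op).hom ((a.hom.app (op V)).hom b) =
      φV hT' (φ ≫ a.hom.app (op (EtCoh.top X))) ((EtCoh.bc j).obj W) m :=
    (NatTrans.naturality_apply a.hom g.op b).symm.trans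
      ((congrArg (a.hom.app (op W)).hom hm).trans (app_φV j a W m))
  rw [h1, val_φV]

include hG hG' in
theorem app_injective [IsOpenImmersion j] (h : Dens j) (V : X.Etale) : Function.Injective (a.hom.app (op V)).hom := by
  intro s t e
  refine val_injective (EtCore.topIsTerminal X) hG fun x => ?_
  by_contra hne
  haveI : Etale V.hom := V.prop
  let s' := val (EtCore.topIsTerminal X) hG s
  let t' := val (EtCore.topIsTerminal X) hG t
  have hO : IsOpen ((fun y => (s' y, t' y)) ⁻¹' {(s' x, t' x)}) :=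
    (s'.isLocallyConstant.prodMk t'.isLocallyConstant).isOpen_fiber _
  have h0 := h.eq_empty V.hom hO fun y hy hyR => hne (by
    obtain ⟨p, rfl⟩ := exists_bcFst j V y hyR
    have h1 : s' (bcFst j V p) = t' (bcFst j V p) :=
      (val_app j hG a hG' V s p).symm.trans ((congrArg (fun r => val (IsTerminal.isTerminalObj (EtCoh.bc j) _ (EtCore.topIsTerminal X)) hG' r p) e).trans (val_app j hG a hG' V t p))
    have h2 := Prod.ext_iff.1 (Set.mem_singleton_iff.1 hy)
    exact h2.1.symm.trans (h1.trans h2.2))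
  exact Set.eq_empty_iff_forall_notMem.1 h0 x rfl

include hG hG' in
theorem mono_of_dens [IsOpenImmersion j] (h : Dens j) : Mono a := by
  haveI : Sheaf.IsLocallyInjective a := ⟨fun {V} s t e => by
    rw [app_injective j hG a hG' h V.unop e, Presheaf.equalizerSieve_self_eq_top]
    exact X.smallEtaleTopology.top_mem _⟩
  exact Sheaf.mono_of_isLocallyInjective a

include hG hG' in
theorem isIso_of_dens_ext [IsOpenImmersion j] [Finite M] (h : Dens j) (h2 : ExtClopen j) : IsIso a := by
  classical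
  refine isIso_of_extend j hG a hG' (nonempty_bc j h) fun V v => ⟨V, 𝟙 V, v, rfl, fun F => ?_⟩
  haveI : Etale V.hom := V.prop
  let π := bcFst j V
  haveI : IsOpenImmersion π := inferInstanceAs (IsOpenImmersion (pullback.fst V.hom j))
  have hD : ∀ m : M, ∃ D : Set V.left, IsClopen D ∧ D ∩ V.hom ⁻¹' Set.range j = π '' (F ⁻¹' {m}) := fun m => by
    refine h2 V.left V.hom inferInstance _ (π.isOpenEmbedding.isOpenMap _ (F.isLocallyConstant.isOpen_fiber m))
      (by rintro _ ⟨p, -, rfl⟩; exact bcFst_mem j V p) ?_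
    exact image_open j V _ (F.isLocallyConstant.isClopen_fiber m).1
  choose D hDc hDi using hD
  have hex : ∀ x, ∃ m, x ∈ D m := fun x => by
    by_contra hne
    push Not at hne
    have hO : IsOpen (⋃ m, D m)ᶜ := (isClosed_iUnion_of_finite fun m => (hDc m).1).isOpen_compl
    have h0 := h.eq_empty V.hom hO fun y hy hyR => hy (by
      obtain ⟨p, rfl⟩ := exists_bcFst j V y hyR
      refine Set.mem_iUnion.2 ⟨F p, ?_⟩
      exact ((hDi (F p)).symm.subset ⟨p, rfl, rfl⟩).1)
    exact Set.eq_empty_iff_forall_notMem.1 h0 x (by simpa using hne)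
  have huniq : ∀ x m n, x ∈ D m → x ∈ D n → m = n := fun x m n hm hn => by
    by_contra hmn
    have h0 := h.eq_empty V.hom ((hDc m).2.inter (hDc n).2) fun y hy hyR => hmn (by
      obtain ⟨p, hp, hpy⟩ := (hDi m).subset ⟨hy.1, hyR⟩
      obtain ⟨q, hq, hqy⟩ := (hDi n).subset ⟨hy.2, hyR⟩
      have := π.isOpenEmbedding.injective (hpy.trans hqy.symm)
      subst this
      exact (Set.mem_singleton_iff.1 hp).symm.trans hq)
    exact Set.eq_empty_iff_forall_notMem.1 h0 x ⟨hm, hn⟩
  choose f hf using hex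
  refine ⟨⟨f, (IsLocallyConstant.iff_exists_open _).2 fun x =>
    ⟨D (f x), (hDc _).2, hf x, fun y hy => huniq y _ _ (hf y) hy⟩⟩, fun p => ?_⟩
  exact huniq (π p) _ _ ((hDi (F p)).symm.subset ⟨p, rfl, rfl⟩).1 (hf (π p))

include hG hG' in
theorem dens_of_injective [Nontrivial M] (hinj : ∀ V : X.Etale, Function.Injective (a.hom.app (op V)).hom) :
    Dens j := by
  intro X' g hg hne
  haveI := hg
  let V : X.Etale := Scheme.Etale.mk g
  haveI : Nonempty V.left := hne
  by_contra hR
  push Not at hR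
  obtain ⟨m, n, hmn⟩ := exists_pair_ne M
  refine hmn (φV_injective (EtCore.topIsTerminal X) hG V (hinj V ?_))
  rw [app_φV j a V m, app_φV j a V n]
  refine val_injective (IsTerminal.isTerminalObj (EtCoh.bc j) _ (EtCore.topIsTerminal X)) hG' fun p => ?_
  exact absurd (bcFst_mem j V p) (hR _)

include hG hG' in
theorem ext_of_surjective [IsOpenImmersion j] [Nontrivial M]
    (hsurj : ∀ V : X.Etale, Function.Surjective (a.hom.app (op V)).hom) : ExtClopen j := by
  classical
  intro X' g hg C hC hCR hC'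
  haveI := hg
  let V : X.Etale := Scheme.Etale.mk g
  let P := (EtCoh.bc j).obj V
  let π := bcFst j V
  haveI : IsOpenImmersion π := inferInstanceAs (IsOpenImmersion (pullback.fst V.hom j))
  obtain ⟨m, n, hmn⟩ := exists_pair_ne M
  let O : ULift.{u} Bool → P.left.Opens := fun i =>
    if i.down then ⟨π ⁻¹' C, hC.preimage π.continuous⟩
    else ⟨π ⁻¹' (g ⁻¹' Set.range j \ C), hC'.preimage π.continuous⟩
  let hT' := IsTerminal.isTerminalObj (EtCoh.bc j) _ (EtCore.topIsTerminal X)
  have hπR : ∀ p, π p ∈ g ⁻¹' Set.range j := fun p => bcFst_mem j V p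
  obtain ⟨s, hs⟩ := exists_glue_disjoint G' P O (fun i i' hii' => by
      rw [← TopologicalSpace.Opens.coe_disjoint, Set.disjoint_left]
      rcases i with ⟨_ | _⟩ <;> rcases i' with ⟨_ | _⟩ <;> simp [O] at hii' ⊢
      all_goals intro p h1 h2; simp_all) (top_unique fun p _ => by
      rw [TopologicalSpace.Opens.mem_iSup]
      by_cases hp : π p ∈ C
      · exact ⟨⟨true⟩, hp⟩
      · exact ⟨⟨false⟩, hπR p, hp⟩)
    (fun i => φV hT' (φ ≫ a.hom.app (op (EtCoh.top X))) _ (if i.down then m else n))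
  obtain ⟨b, hb⟩ := hsurj V s
  have hval : ∀ (i : ULift.{u} Bool) (p : P.left), p ∈ O i →
      val (EtCore.topIsTerminal X) hG b (π p) = if i.down then m else n := by
    intro i p hp
    rw [← val_app j hG a hG' V b p, hb]
    exact val_eq hT' hG' (restrictEtaleHom P (O i)) (⟨p, hp⟩ : (O i).toScheme) (hs i)
  refine ⟨val (EtCore.topIsTerminal X) hG b ⁻¹' {m}, (LocallyConstant.isLocallyConstant _).isClopen_fiber m, ?_⟩
  ext x
  constructor
  · rintro ⟨hx, hxR⟩
    obtain ⟨p, rfl⟩ := exists_bcFst j V x hxR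
    by_contra hpC
    exact hmn ((Set.mem_singleton_iff.1 hx).symm.trans (hval ⟨false⟩ p ⟨hπR p, hpC⟩))
  · intro hx
    obtain ⟨p, rfl⟩ := exists_bcFst j V x (hCR hx)
    exact ⟨hval ⟨true⟩ p hx, hCR hx⟩

end Sheaf

variable [IsOpenImmersion j] [EtCoh.BCCont j]

theorem depthGE_one_iff (F : EtCoh.Ab X) : EtDepth.DepthGE j F 1 ↔ Mono (EtDual.unitApp j F) := by
  haveI := LocCohLib.secSupp_preservesFiniteLimits j
  let e := (EtDual.secSupp j).rightDerivedZeroIsoSelf.app F
  constructor
  · intro h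
    exact Preadditive.mono_of_isZero_kernel _ ((h 0 Nat.one_pos).of_iso e.symm)
  · intro h p hp
    obtain rfl : p = 0 := by omega
    exact (isZero_kernel_of_mono (EtDual.unitApp j F)).of_iso e

theorem depthGE_two_iff (F : EtCoh.Ab X) : EtDepth.DepthGE j F 2 ↔ IsIso (EtDual.unitApp j F) := by
  obtain ⟨e⟩ := (LocCohLib.locCoh_succ_iso j F).1
  constructor
  · intro h
    haveI : Mono (EtDual.unitApp j F) := (depthGE_one_iff j F).1 fun p hp => h p (by omega)
    haveI : Epi (EtDual.unitApp j F) := Preadditive.epi_of_isZero_cokernel _ ((h 1 (by omega)).of_iso e)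
    exact isIso_of_mono_of_epi _
  · intro h p hp
    obtain rfl | rfl : p = 0 ∨ p = 1 := by omega
    · exact (depthGE_one_iff j F).2 inferInstance 0 Nat.one_pos
    · exact (isZero_cokernel_of_epi (EtDual.unitApp j F)).of_iso e.symm

/-- Depth one of constant coefficients. -/
theorem depth_one_iff_dens :
    (∀ ℓ : ℕ, ℓ.Prime → EtDepth.DepthGE j (EtCoh.const X (ZMod ℓ)) 1) ↔ Dens j := by
  simp only [depthGE_one_iff]
  constructor
  · intro h
    have h2 := EtFound.ConstVal.constBy_const X (AddCommGrpCat.of (ULift.{u + 1} (ZMod 2))) (EtCoh.top X)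
    haveI : Nontrivial (AddCommGrpCat.of (ULift.{u + 1} (ZMod 2))) := inferInstanceAs (Nontrivial (ULift.{u + 1} (ZMod 2)))
    refine dens_of_injective (M := AddCommGrpCat.of (ULift.{u + 1} (ZMod 2))) j h2 ((EtCoh.pullPushAdj j).unit.app _) (EtFound.constBy_pull j h2) fun V => ?_
    haveI : Fact (Nat.Prime 2) := ⟨Nat.prime_two⟩
    haveI := h 2 Nat.prime_two
    haveI : Mono ((sheafToPresheaf _ _).map (EtDual.unitApp j (EtCoh.const X (ZMod 2)))) := inferInstance
    exact (AddCommGrpCat.mono_iff_injective _).1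
      (inferInstanceAs (Mono (((sheafToPresheaf _ _).map (EtDual.unitApp j (EtCoh.const X (ZMod 2)))).app (op V))))
  · intro h ℓ _
    have h2 := EtFound.ConstVal.constBy_const X (AddCommGrpCat.of (ULift.{u + 1} (ZMod ℓ))) (EtCoh.top X)
    exact mono_of_dens j h2 ((EtCoh.pullPushAdj j).unit.app _) (EtFound.constBy_pull j h2) h

/-- Depth two of constant coefficients. -/
theorem depth_two_iff_ext :
    (∀ ℓ : ℕ, ℓ.Prime → EtDepth.DepthGE j (EtCoh.const X (ZMod ℓ)) 2) ↔ Dens j ∧ ExtClopen j := by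
  constructor
  · intro h
    refine ⟨(depth_one_iff_dens j).1 fun ℓ hℓ p hp => h ℓ hℓ p (by omega), ?_⟩
    have h2 := EtFound.ConstVal.constBy_const X (AddCommGrpCat.of (ULift.{u + 1} (ZMod 2))) (EtCoh.top X)
    haveI : Nontrivial (AddCommGrpCat.of (ULift.{u + 1} (ZMod 2))) := inferInstanceAs (Nontrivial (ULift.{u + 1} (ZMod 2)))
    refine ext_of_surjective (M := AddCommGrpCat.of (ULift.{u + 1} (ZMod 2))) j h2 ((EtCoh.pullPushAdj j).unit.app _) (EtFound.constBy_pull j h2) fun V => ?_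
    haveI : IsIso (EtDual.unitApp j (EtCoh.const X (ZMod 2))) := (depthGE_two_iff j _).1 (h 2 Nat.prime_two)
    exact (ConcreteCategory.bijective_of_isIso
      (((sheafToPresheaf _ _).map (EtDual.unitApp j (EtCoh.const X (ZMod 2)))).app (op V))).2
  · rintro ⟨h, h'⟩ ℓ hℓ
    haveI : Fact ℓ.Prime := ⟨hℓ⟩
    have h2 := EtFound.ConstVal.constBy_const X (AddCommGrpCat.of (ULift.{u + 1} (ZMod ℓ))) (EtCoh.top X)
    haveI : Finite (AddCommGrpCat.of (ULift.{u + 1} (ZMod ℓ))) := inferInstanceAs (Finite (ULift.{u + 1} (ZMod ℓ)))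
    exact (depthGE_two_iff j _).2
      (isIso_of_dens_ext (M := AddCommGrpCat.of (ULift.{u + 1} (ZMod ℓ))) j h2 ((EtCoh.pullPushAdj j).unit.app _) (EtFound.constBy_pull j h2) h h')

end Groth.Agent.DepthFEt
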